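-- Team project PHYP (S5974): plus-type orthogonal groups and hyperbolic m-spaces.
-- Interface file (helper63): definitions and the top-level package statements.
import Mathlib
import Cfsg.Prelude.Def_GeometricClasses
import Cfsg.Prelude.Def_Classical

set_option autoImplicit false
open scoped MatrixGroups
open Matrix

namespace Cfsg.Agent.Lib.Helper63.PHyp

universe u

/-- `W` is a hyperbolic `m`-space of `F^(2d)` for `Q = Σ xᵢ yᵢ` (verbatim as in S5974). -/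
def Hyp {F : Type u} [Field F] (d m : ℕ) (W : Submodule F (Fin d ⊕ Fin d → F)) : Prop :=
  Module.finrank F ↥W = m ∧
    (∀ u ∈ W, u ≠ 0 → ∃ v ∈ W, QuadraticMap.polar (Cfsg.quadFormPlus d F) u v ≠ 0) ∧
    ∃ U : Submodule F (Fin d ⊕ Fin d → F), U ≤ W ∧ 2 * Module.finrank F ↥U = m ∧
      ∀ u ∈ U, Cfsg.quadFormPlus d F u = 0

/-- the matrix `x` fixes some hyperbolic `m`-space -/
def Fixes {F : Type u} [Field F] (d m : ℕ) (x : Matrix (Fin d ⊕ Fin d) (Fin d ⊕ Fin d) F) : Prop :=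
  ∃ W : Submodule F (Fin d ⊕ Fin d → F), Hyp d m W ∧ W.map (Matrix.toLin' x) ≤ W

/-- the left-hand side of S5974: every element of order `r` of `PΩ⁺` fixes a hyperbolic `m`-space -/
def AllFix (F : Type u) [Field F] (d m r : ℕ) : Prop :=
  ∀ x : GL (Fin d ⊕ Fin d) F, x ∈ Cfsg.Geo.omegaGL (Cfsg.quadFormPlus d F) →
    (∃ z : F, ((x ^ r : GL (Fin d ⊕ Fin d) F) : Matrix (Fin d ⊕ Fin d) (Fin d ⊕ Fin d) F) =
      z • (1 : Matrix (Fin d ⊕ Fin d) (Fin d ⊕ Fin d) F)) →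
    (∀ z : F, (x : Matrix (Fin d ⊕ Fin d) (Fin d ⊕ Fin d) F) ≠
      z • (1 : Matrix (Fin d ⊕ Fin d) (Fin d ⊕ Fin d) F)) →
    Fixes d m (x : Matrix (Fin d ⊕ Fin d) (Fin d ⊕ Fin d) F)

/-- condition (ii) of S5974 (`i` odd) -/
def NumOdd (d m i c : ℕ) : Prop := Odd i ∧ c ≤ m ∧ m % c ≤ (2 * d) % c

/-- condition (iii) of S5974 (`i` even) -/
def NumEven (d m i c : ℕ) : Prop :=
  Even i ∧
    (((2 * d) % c = 0 ∧ (Odd ((2 * d) / i) ∨ (m % c = 0 ∧ Even (m / i)))) ∨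
     (i ≤ m ∧ ((m % c < (2 * d) % c ∧ 0 < m % c) ∨
               ((2 * d) % c = m % c ∧ 0 < m % c ∧ Even ((2 * d + m - 2 * ((2 * d) % c)) / i)) ∨
               (0 < (2 * d) % c ∧ m % c = 0 ∧ Even (m / i)))))

/-- the parameters for which `r` does not divide the number of hyperbolic `m`-spaces although
every element of order `r` fixes one -/
def SCond (d m i c : ℕ) : Prop :=
  m < c ∧ 0 < (2 * d) % c ∧
    (m < (2 * d) % c ∨ (m = (2 * d) % c ∧ (Odd i ∨ Even ((2 * d) / c))))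

/-- the type of an invariant nondegenerate subspace of `movSp x` made of `j` blocks of dimension `c`:
plus type iff `Tau i j` -/
def Tau (i j : ℕ) : Prop := Odd i ∨ Even j

/-- `j` is a possible number of blocks of an element of order `r` of `O⁺_{2d}(q)`:
`dim movSp = c j`, and `movSp = V` forces plus type -/
def Valid (d i c j : ℕ) : Prop := 1 ≤ j ∧ c * j ≤ 2 * d ∧ (c * j = 2 * d → Tau i j)

/-- an invariant hyperbolic `m`-space `W` of an element with `j` blocks: `j' = dim (W ⊓ movSp) / c`,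
`e = dim (W ⊓ fixSp)` -/
def Good (d m i c j j' e : ℕ) : Prop :=
  j' ≤ j ∧ e + c * j' = m ∧ e + c * j ≤ 2 * d ∧ (e = 0 → Tau i j') ∧
    (e + c * j = 2 * d → 0 < e → (Tau i j' ↔ Tau i j))

/-! ### regime `r = 2` -/

/-- [T2O] `r = 2`, `q` odd -/
def PkgT2O : Prop :=
  ∀ (F : Type u) [Field F] [Fintype F] (d m : ℕ), (2 : F) ≠ 0 → 4 ≤ d → 2 ≤ m → Even m → m < d →
    (AllFix F d m 2 ↔ ((2 * d) % 4 = 2 ∨ m % 4 = 0 ∨ Fintype.card F % 4 = 1))

/-- [T2E] `r = 2`, `q` even -/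
def PkgT2E : Prop :=
  ∀ (F : Type u) [Field F] [Fintype F] (d m : ℕ), (2 : F) = 0 → 4 ≤ d → 2 ≤ m → Even m → m < d →
    (AllFix F d m 2 ↔ ((2 * d) % 4 = 2 ∨ m % 4 = 0))

/-! ### regime `r` odd, `r ≠ p` -/

/-- [TODD] the whole regime `r` odd -/
def PkgTOdd : Prop :=
  ∀ (F : Type u) [Field F] [Fintype F] (d m r i c : ℕ), 4 ≤ d → 2 ≤ m → Even m → m < d →
    r.Prime → r ≠ 2 → ¬ r ∣ Fintype.card F →
    r ∣ Nat.card {W : Submodule F (Fin d ⊕ Fin d → F) // Hyp d m W} →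
    i = orderOf ((Fintype.card F : ℕ) : ZMod r) → c = (if Even i then i else 2 * i) →
    (AllFix F d m r ↔ (NumOdd d m i c ∨ NumEven d m i c))

/-- [SCALR] an element of order `r` (odd) of `PΩ⁺` is `± y` with `y` an isometry, `y ^ r = 1` -/
def PkgScalR : Prop :=
  ∀ (F : Type u) [Field F] [Fintype F] (d r : ℕ), 1 ≤ d → Odd r →
    ∀ x : GL (Fin d ⊕ Fin d) F, x ∈ Cfsg.Geo.omegaGL (Cfsg.quadFormPlus d F) →
    (∃ z : F, ((x ^ r : GL (Fin d ⊕ Fin d) F) : Matrix (Fin d ⊕ Fin d) (Fin d ⊕ Fin d) F) =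
      z • (1 : Matrix (Fin d ⊕ Fin d) (Fin d ⊕ Fin d) F)) →
    (∀ z : F, (x : Matrix (Fin d ⊕ Fin d) (Fin d ⊕ Fin d) F) ≠
      z • (1 : Matrix (Fin d ⊕ Fin d) (Fin d ⊕ Fin d) F)) →
    ∃ y : GL (Fin d ⊕ Fin d) F, y ∈ Cfsg.isometryGroup F (Cfsg.quadFormPlus d F) ∧ y ^ r = 1 ∧
      y ≠ 1 ∧ ∀ W : Submodule F (Fin d ⊕ Fin d → F),
        W.map (Matrix.toLin' (y : Matrix (Fin d ⊕ Fin d) (Fin d ⊕ Fin d) F)) ≤ W →
        W.map (Matrix.toLin' (x : Matrix (Fin d ⊕ Fin d) (Fin d ⊕ Fin d) F)) ≤ W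

/-- [STRFIX] over `F`: an isometry `y` of order `r` has `j` blocks (`Valid`), and every `Good` pair
`(j', e)` yields an invariant hyperbolic `m`-space -/
def StrFixAt (F : Type u) [Field F] [Fintype F] : Prop :=
  ∀ (d m r i c : ℕ), 4 ≤ d → 2 ≤ m → Even m → m < d → r.Prime → r ≠ 2 → ¬ r ∣ Fintype.card F →
    i = orderOf ((Fintype.card F : ℕ) : ZMod r) → c = (if Even i then i else 2 * i) →
    ∀ y : GL (Fin d ⊕ Fin d) F, y ∈ Cfsg.isometryGroup F (Cfsg.quadFormPlus d F) → y ^ r = 1 →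
      y ≠ 1 →
      ∃ j : ℕ, Valid d i c j ∧ ∀ j' e : ℕ, Good d m i c j j' e →
        Fixes d m (y : Matrix (Fin d ⊕ Fin d) (Fin d ⊕ Fin d) F)

/-- [STRDER] over `F`: for every `Valid` `j` there is an element of order `r` of `Ω⁺` with `j`
blocks; each of its invariant hyperbolic `m`-spaces yields a `Good` pair -/
def StrDerAt (F : Type u) [Field F] [Fintype F] : Prop :=
  ∀ (d m r i c : ℕ), 4 ≤ d → 2 ≤ m → Even m → m < d → r.Prime → r ≠ 2 → ¬ r ∣ Fintype.card F →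
    i = orderOf ((Fintype.card F : ℕ) : ZMod r) → c = (if Even i then i else 2 * i) →
    ∀ j : ℕ, Valid d i c j →
      ∃ x : GL (Fin d ⊕ Fin d) F, x ∈ Cfsg.Geo.omegaGL (Cfsg.quadFormPlus d F) ∧ x ^ r = 1 ∧
        (∀ z : F, (x : Matrix (Fin d ⊕ Fin d) (Fin d ⊕ Fin d) F) ≠
          z • (1 : Matrix (Fin d ⊕ Fin d) (Fin d ⊕ Fin d) F)) ∧
        ∀ W : Submodule F (Fin d ⊕ Fin d → F), Hyp d m W →
          W.map (Matrix.toLin' (x : Matrix (Fin d ⊕ Fin d) (Fin d ⊕ Fin d) F)) ≤ W →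
          ∃ j' e : ℕ, Good d m i c j j' e

/-- [CNT] over `F`: under `SCond` the prime `r` does not divide the number of hyperbolic
`m`-spaces -/
def CntAt (F : Type u) [Field F] [Fintype F] : Prop :=
  ∀ (d m r i c : ℕ), 4 ≤ d → 2 ≤ m → Even m → m < d → r.Prime → r ≠ 2 → ¬ r ∣ Fintype.card F →
    i = orderOf ((Fintype.card F : ℕ) : ZMod r) → c = (if Even i then i else 2 * i) →
    SCond d m i c →
    ¬ r ∣ Nat.card {W : Submodule F (Fin d ⊕ Fin d → F) // Hyp d m W}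

/-- [STRFIX-O] odd characteristic -/
def PkgStrFixO : Prop := ∀ (F : Type u) [Field F] [Fintype F], (2 : F) ≠ 0 → StrFixAt F
/-- [STRFIX-E] characteristic two -/
def PkgStrFixE : Prop := ∀ (F : Type u) [Field F] [Fintype F], (2 : F) = 0 → StrFixAt F
/-- [STRDER-O] odd characteristic -/
def PkgStrDerO : Prop := ∀ (F : Type u) [Field F] [Fintype F], (2 : F) ≠ 0 → StrDerAt F
/-- [STRDER-E] characteristic two -/
def PkgStrDerE : Prop := ∀ (F : Type u) [Field F] [Fintype F], (2 : F) = 0 → StrDerAt F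
/-- [CNT-O] odd characteristic -/
def PkgCntO : Prop := ∀ (F : Type u) [Field F] [Fintype F], (2 : F) ≠ 0 → CntAt F
/-- [CNT-E] characteristic two -/
def PkgCntE : Prop := ∀ (F : Type u) [Field F] [Fintype F], (2 : F) = 0 → CntAt F

/-- [NUMFIX] arithmetic: under (ii) or (iii) every `Valid` `j` has a `Good` pair -/
def PkgNumFix : Prop :=
  ∀ (d m i c : ℕ), 4 ≤ d → 2 ≤ m → Even m → m < d → 1 ≤ i → c = (if Even i then i else 2 * i) →
    (NumOdd d m i c ∨ NumEven d m i c) → ∀ j : ℕ, Valid d i c j → ∃ j' e : ℕ, Good d m i c j j' e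

/-- [NUMDER] arithmetic: if (ii), (iii) and `SCond` all fail, some `Valid` `j` has no `Good` pair -/
def PkgNumDer : Prop :=
  ∀ (d m i c : ℕ), 4 ≤ d → 2 ≤ m → Even m → m < d → 1 ≤ i → c = (if Even i then i else 2 * i) →
    ¬ (NumOdd d m i c ∨ NumEven d m i c) → ¬ SCond d m i c →
    ∃ j : ℕ, Valid d i c j ∧ ¬ ∃ j' e : ℕ, Good d m i c j j' e

end Cfsg.Agent.Lib.Helper63.PHyp
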