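-- Team project PHYP (S5974), regime [T2E]: package [RP] (an invariant hyperbolic plane when the
-- involution is not of a-type).
import Mathlib
import Cfsg.Agent.Lib.Helper12.PHyp.T2EBasic
import Cfsg.Agent.Lib.Helper87.OHyp.Perp

set_option autoImplicit false
set_option linter.unusedSectionVars false
open scoped MatrixGroups
open Matrix

namespace Cfsg.Agent.Lib.Helper63.PHyp

open Cfsg.Agent.Lib.Helper23.OHyp
open Cfsg.Agent.Lib.Helper12.PHyp
open Cfsg.Agent.Lib.Helper94

universe u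

section rp

variable {F : Type u} [Field F] {ι : Type} [Fintype ι] [DecidableEq ι]
variable {Q : (ι → F) → F} {x : Matrix ι ι F}

/-- `a ↦ B(a, x a)` is additive. -/
lemma rp_phi_add (h : Std2 Q x) (a b : ι → F) :
    QuadraticMap.polar Q (a + b) (x *ᵥ (a + b)) =
      QuadraticMap.polar Q a (x *ᵥ a) + QuadraticMap.polar Q b (x *ᵥ b) := by
  have hB := h.nondeg.polar_bilinear
  rw [Matrix.mulVec_add, hB.add_left, hB.add_right, hB.add_right]
  have e : QuadraticMap.polar Q b (x *ᵥ a) = QuadraticMap.polar Q a (x *ᵥ b) := by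
    rw [h.px_right b a, QuadraticMap.polar_comm]
  rw [e]
  have := h.add_self (QuadraticMap.polar Q a (x *ᵥ b))
  linear_combination this

lemma rp_phi_smul (h : Std2 Q x) (c : F) (a : ι → F) :
    QuadraticMap.polar Q (c • a) (x *ᵥ (c • a)) = c ^ 2 * QuadraticMap.polar Q a (x *ᵥ a) := by
  have hB := h.nondeg.polar_bilinear
  rw [Matrix.mulVec_smul, hB.smul_left, hB.smul_right]
  ring

/-- The invariant nondegenerate plane spanned by `a` and `x a + a` when `B(a, x a) ≠ 0`. -/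
lemma rp_plane (h : Std2 Q x) (V : Submodule F (ι → F)) (hV : Inv x V) (a : ι → F) (ha : a ∈ V)
    (hφ : QuadraticMap.polar Q a (x *ᵥ a) ≠ 0) :
    Submodule.span F {a, x *ᵥ a + a} ≤ V ∧ Inv x (Submodule.span F {a, x *ᵥ a + a}) ∧
      Nd Q (Submodule.span F {a, x *ᵥ a + a}) ∧
      Module.finrank F (Submodule.span F {a, x *ᵥ a + a}) = 2 := by
  have hB := h.nondeg.polar_bilinear
  have hxa : x *ᵥ a ∈ V := inv_mulVec_mem hV ha
  have hn : x *ᵥ a + a ∈ V := V.add_mem hxa ha
  have hab : QuadraticMap.polar Q a (x *ᵥ a + a) ≠ 0 := by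
    rw [hB.add_right, h.pself, add_zero]
    exact hφ
  obtain ⟨hnd, hfr⟩ := plane_nd h.nondeg a (x *ᵥ a + a) (h.pself a) (h.pself _) hab
  refine ⟨?_, ?_, hnd, hfr⟩
  · rw [Submodule.span_le]
    intro y hy
    rcases hy with rfl | rfl
    · exact ha
    · exact hn
  · apply inv_of_mulVec_mem
    intro w hw
    obtain ⟨s, t, rfl⟩ := Submodule.mem_span_pair.1 hw
    rw [Matrix.mulVec_add, Matrix.mulVec_smul, Matrix.mulVec_smul, h.xn]
    have hmem : (x *ᵥ a + a) + a ∈ Submodule.span F {a, x *ᵥ a + a} :=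
      add_mem (Submodule.subset_span (by simp)) (Submodule.subset_span (by simp))
    have e : (x *ᵥ a + a) + a = x *ᵥ a := by rw [add_assoc, h.vadd_self, add_zero]
    rw [e] at hmem
    exact add_mem (Submodule.smul_mem _ s hmem)
      (Submodule.smul_mem _ t (Submodule.subset_span (by simp)))

end rp

/-- [RP] -/
theorem pkgRP : PkgRP.{u} := by
  intro F _ _ ι _ _ Q x h V hV hNd hdim hA
  have hB := h.nondeg.polar_bilinear
  unfold AType at hA
  push Not at hA
  obtain ⟨v, hv, hφ⟩ := hA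
  have key : ∃ v' ∈ V, Q v' = 0 ∧ QuadraticMap.polar Q v' (x *ᵥ v') ≠ 0 := by
    by_cases hκ : Q v = 0
    · exact ⟨v, hv, hκ, hφ⟩
    obtain ⟨hP0V, hP0inv, hP0nd, hP0fr⟩ := rp_plane h V hV v hv hφ
    obtain ⟨V1, hV1V, hV1inv, hV1nd, hperp, -, hfr⟩ :=
      Cfsg.Agent.Lib.Helper87.OHyp.pkgPerp F ι Q h.nondeg x h.isom h.det V _ hP0V hV hP0inv hNd
        hP0nd
    have hV1pos : 0 < Module.finrank F V1 := by omega
    obtain ⟨a, ha, ha0⟩ : ∃ a ∈ V1, a ≠ 0 := by
      have hne : V1 ≠ ⊥ := by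
        intro hbot
        rw [hbot, finrank_bot] at hV1pos
        exact lt_irrefl _ hV1pos
      exact Submodule.exists_mem_ne_zero_of_ne_bot hne
    obtain ⟨b, hb, hab⟩ := nd_right hV1nd ha ha0
    have hex : ∃ h0 ∈ V1, QuadraticMap.polar Q h0 (x *ᵥ h0) = 0 ∧ Q h0 ≠ 0 := by
      have caseB : ∀ w ∈ V1, QuadraticMap.polar Q w (x *ᵥ w) ≠ 0 →
          ∃ h0 ∈ V1, QuadraticMap.polar Q h0 (x *ᵥ h0) = 0 ∧ Q h0 ≠ 0 := by
        intro w hw hφw
        refine ⟨x *ᵥ w + w, V1.add_mem (inv_mulVec_mem hV1inv hw) hw, ?_, ?_⟩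
        · rw [h.xn, h.pself]
        · rw [h.qn]
          exact hφw
      by_cases h1 : QuadraticMap.polar Q a (x *ᵥ a) = 0
      · by_cases h2 : QuadraticMap.polar Q b (x *ᵥ b) = 0
        · by_cases hQa : Q a = 0
          · by_cases hQb : Q b = 0
            · refine ⟨a + b, V1.add_mem ha hb, ?_, ?_⟩
              · rw [rp_phi_add h, h1, h2, add_zero]
              · rw [Q_add (Q := Q), hQa, hQb, zero_add, zero_add]
                exact hab
            · exact ⟨b, hb, h2, hQb⟩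
          · exact ⟨a, ha, h1, hQa⟩
        · exact caseB b hb h2
      · exact caseB a ha h1
    obtain ⟨h0, hh0, hφ0, hQ0⟩ := hex
    have hchar : ringChar F = 2 :=
      CharP.ringChar_of_prime_eq_zero Nat.prime_two (by exact_mod_cast h.two)
    obtain ⟨s, hs⟩ := FiniteField.isSquare_of_char_two hchar (Q v / Q h0)
    refine ⟨v + s • h0, V.add_mem hv (V.smul_mem s (hV1V hh0)), ?_, ?_⟩
    · rw [Q_add (Q := Q), Q_smul h.nondeg]
      have hp : QuadraticMap.polar Q v (s • h0) = 0 :=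
        hperp v (Submodule.subset_span (by simp)) (s • h0) (V1.smul_mem s hh0)
      have hp' : pol Q v (s • h0) = 0 := hp
      rw [hp', add_zero]
      have e : s ^ 2 * Q h0 = Q v := by
        rw [pow_two, ← hs]
        field_simp
      rw [e]
      exact h.add_self _
    · rw [rp_phi_add h, rp_phi_smul h, hφ0, mul_zero, add_zero]
      exact hφ
  obtain ⟨v', hv', hQv', hφ'⟩ := key
  obtain ⟨hPV, hPinv, hPnd, hPfr⟩ := rp_plane h V hV v' hv' hφ'
  refine ⟨_, hPV, hPinv, hPnd, ?_, hPfr⟩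
  have hba : QuadraticMap.polar Q (x *ᵥ v' + v') v' ≠ 0 := by
    rw [hB.add_left, h.pself, add_zero, QuadraticMap.polar_comm]
    exact hφ'
  have hpl := plane_plus h.nondeg (x *ᵥ v' + v') v' (h.pself _) (h.pself _) hba hQv'
  rw [Set.pair_comm] at hpl
  exact hpl

end Cfsg.Agent.Lib.Helper63.PHyp
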